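import Groth.Agent.CdInt.Devissage
import Groth.Agent.EtLC12.ArtinSchreier
import Groth.Agent.S0110
import Groth.Agent.AlgSpLib.CartierDim
import Groth.Agent.CurveBC.FiniteDim
import Groth.Agent.VanishGroth7.Noetherian

/-! cohomological `p`-dimension in characteristic `p` -/

universe u

open CategoryTheory CategoryTheory.Limits AlgebraicGeometry Opposite CategoryTheory.Abelian TopologicalSpace

namespace Groth.Agent.CdInt

set_option autoImplicit false
set_option maxHeartbeats 1000000
set_option synthInstance.maxHeartbeats 400000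
set_option backward.isDefEq.respectTransparency false
set_option backward.isDefEq.respectTransparency.types false
set_option linter.style.haveILetI false

/-- finite morphisms do not raise the dimension -/
theorem topologicalKrullDim_le_of_finite {A B : Scheme.{u}} (f : A ⟶ B) [IsFinite f] :
    topologicalKrullDim A ≤ topologicalKrullDim B := by
  let g : IrreducibleCloseds A → IrreducibleCloseds B := fun Z =>
    ⟨f '' (Z : Set A), Z.isIrreducible.image _ f.continuous.continuousOn, f.isClosedMap _ Z.isClosed⟩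
  refine Order.krullDim_le_of_strictMono g fun S T hST => ?_
  refine lt_of_le_of_ne (Set.image_mono (f := f) hST.le) fun h => ?_
  obtain ⟨a, ha⟩ := QuasiSober.sober S.isIrreducible S.isClosed
  obtain ⟨b, hb⟩ := QuasiSober.sober T.isIrreducible T.isClosed
  have hab : b ⤳ a := hb.specializes (hST.le ha.mem)
  obtain ⟨c, hc, hce⟩ : f b ∈ f '' (S : Set A) :=
    (congrArg (fun Z : IrreducibleCloseds B => (Z : Set B)) h).ge ⟨b, hb.mem, rfl⟩
  have h1 : f a ⤳ f b := hce ▸ (ha.specializes hc).map f.continuous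
  have he : f a = f b := (h1.antisymm (hab.map f.continuous)).eq
  exact hST.ne (IrreducibleCloseds.ext (by
    rw [← ha.def, ← hb.def, CurveBC.eq_of_specializes_fibre f hab he.symm]))

/-- dimension plus one -/
noncomputable def dimSucc {X : Scheme.{u}} (Y : Scheme.{u}) (_ : Y ⟶ X) : ℕ :=
  ((topologicalKrullDim Y).unbotD 0).toNat + 1

variable {k : Type u} [Field k] {X : Scheme.{u}} {n : ℕ}

theorem natCast_dim_eq {Y : Scheme.{u}} [Nonempty Y] (h : topologicalKrullDim Y ≤ n) :
    ∃ d : ℕ, topologicalKrullDim Y = d ∧ d ≤ n ∧ ∀ g : Y ⟶ X, dimSucc Y g = d + 1 := by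
  haveI : Nonempty (IrreducibleCloseds Y) :=
    ⟨⟨closure {Classical.arbitrary Y}, isIrreducible_singleton.closure, isClosed_closure⟩⟩
  have h0 : (0 : WithBot ℕ∞) ≤ topologicalKrullDim Y := Order.krullDim_nonneg
  generalize hd : topologicalKrullDim Y = e at h h0
  cases e with
  | bot => exact absurd h0 (by simp)
  | coe e =>
    cases e with
    | top => exact absurd h (not_le.2 (by exact_mod_cast (WithBot.coe_lt_coe.2 (ENat.natCast_lt_top n) : ((n : ℕ∞) : WithBot ℕ∞) < ((⊤ : ℕ∞) : WithBot ℕ∞))))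
    | coe e =>
      refine ⟨e, rfl, by exact_mod_cast h, fun g => ?_⟩
      simp only [dimSucc, hd]
      rfl

theorem isDimFun_dimSucc (hn : topologicalKrullDim X ≤ n) : IsDimFun X (dimSucc (X := X)) := by
  intro Y₁ Y₂ g₁ g₂ _ _ _ _ m hm
  haveI : IsFinite (m ≫ g₂) := by rw [hm]; infer_instance
  haveI : IsFinite m := IsFinite.of_comp m g₂
  obtain ⟨d₁, e₁, -, f₁⟩ := natCast_dim_eq (X := X) (n := n) ((topologicalKrullDim_le_of_finite g₁).trans hn)
  obtain ⟨d₂, e₂, -, f₂⟩ := natCast_dim_eq (X := X) (n := n) ((topologicalKrullDim_le_of_finite g₂).trans hn)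
  rw [f₁, f₂]
  have hle : d₁ ≤ d₂ := by exact_mod_cast (e₁ ▸ e₂ ▸ topologicalKrullDim_le_of_finite m)
  refine ⟨by omega, fun hc hi => ?_⟩
  suffices d₁ < d₂ by omega
  have hne : Set.range m.base ≠ Set.univ := fun h => hi (by
    haveI : Surjective m := ⟨Set.range_eq_univ.1 h⟩
    exact isIso_of_isClosedImmersion_of_surjective m)
  have hlt : topologicalKrullDim (Set.range m.base) < topologicalKrullDim Y₂ := by
    refine AlgSpLib.CartierDim.topologicalKrullDim_lt m.isClosedEmbedding.isClosed_range (fun z _ =>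
      ⟨genericPoint Y₂, fun h => hne ?_, (genericPoint_spec Y₂).specializes trivial⟩) ?_
    · refine Set.eq_univ_of_univ_subset ?_
      rw [← (genericPoint_spec Y₂).def]
      exact closure_minimal (Set.singleton_subset_iff.2 h) m.isClosedEmbedding.isClosed_range
    · rw [e₂]
      exact fun h => ENat.natCast_ne_top _ (WithBot.coe_injective h)
  have h1 : topologicalKrullDim Y₁ ≤ topologicalKrullDim (Set.range m.base) :=
    (Topology.IsInducing.topologicalKrullDim_le
      (m.isClosedEmbedding.isInducing.codRestrict (fun y => Set.mem_range_self y)))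
  rw [e₁] at h1
  rw [e₂] at hlt
  exact_mod_cast lt_of_le_of_lt h1 hlt

/-- vanishing for the constant sheaf -/
theorem subsingleton_H_zmod (p : ℕ) [Fact p.Prime] {Y : Scheme.{u}} [AlgebraicGeometry.IsNoetherian Y]
    (h0 : (p : Γ(Y, ⊤)) = 0) {d : ℕ} (hd : topologicalKrullDim Y ≤ d) (q : ℕ) (hq : d + 1 < q) :
    Subsingleton (EtCoh.H Y (EtCoh.const Y (ZMod p)) q) := by
  obtain ⟨i, rfl⟩ : ∃ i, q = i + 1 := ⟨q - 1, by omega⟩
  have hGa : ∀ j, d < j → Subsingleton (EtCoh.H Y (EtCoh.Ga Y) j) := fun j hj => by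
    obtain ⟨e⟩ := Groth.Agent.S0110.result Y j
    haveI : Subsingleton (Coh.HH Y (Coh.structureModule Y) j) :=
      VanishGroth7.subsingleton_H_of_dim_le (X := Y.toPresheafedSpace.carrier) d hd _ j hj
    exact e.toEquiv.subsingleton
  refine CdDim.subsingleton_H_of_iso' (asIso (EtLC12.ArtinSchreier.constToKer p h0)).symm (i + 1)
    (subsingleton_of_forall_eq 0 fun x => ?_)
  obtain ⟨z, hz⟩ := Ext.covariant_sequence_exact₁ _ (EtLC12.ArtinSchreier.shortExact_kernel p h0) x
    (@Subsingleton.elim _ (hGa (i + 1) (by omega)) _ _) rfl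
  rw [← hz, @Subsingleton.elim _ (hGa i (by omega)) z 0, Ext.zero_comp]

theorem cdLEAt_charP (p : ℕ) [Fact p.Prime] [CharP k p] (f : X ⟶ Spec (CommRingCat.of k)) [LocallyOfFiniteType f]
    [QuasiCompact f] (hn : topologicalKrullDim X ≤ n) : Dix.CohDimLEAt X p (n + 1) := by
  haveI : IsLocallyNoetherian X := LocallyOfFiniteType.isLocallyNoetherian f
  haveI : CompactSpace X := QuasiCompact.compactSpace_of_compactSpace f
  haveI : AlgebraicGeometry.IsNoetherian X := { }
  intro F hF q hq
  have hc : ConstBound (X := X) dimSucc p := by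
    intro Y g _ _ q hq
    haveI := isNoetherian_source g
    obtain ⟨d, e, -, hd⟩ := natCast_dim_eq (X := X) (n := n) ((topologicalKrullDim_le_of_finite g).trans hn)
    rw [hd] at hq
    let φ : k →+* Γ(Y, ⊤) := ((Scheme.ΓSpecIso (CommRingCat.of k)).inv ≫ (g ≫ f).appTop).hom
    have h0 : (p : Γ(Y, ⊤)) = 0 := by rw [← map_natCast φ, CharP.cast_eq_zero, map_zero]
    exact subsingleton_H_zmod p h0 e.le q hq
  refine bound_all Fact.out (isDimFun_dimSucc hn) hc q X (𝟙 X) F hF (fun x _ => ?_) q le_rfl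
  obtain ⟨Z, c, _, _, -, -, e⟩ := exists_φpt (dimSucc (X := X)) (𝟙 X) x
  obtain ⟨d, -, hd, hd'⟩ := natCast_dim_eq (X := X) (n := n) ((topologicalKrullDim_le_of_finite c).trans hn)
  rw [e, hd']
  omega

end Groth.Agent.CdInt
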