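import Groth.Agent.CdInt.PushStep
import Groth.Agent.EtTorLib.Supp
import Groth.Agent.EtLC12.QcqsAcyclic
import Groth.Agent.EtFound.NoethACC
import Groth.Agent.EtFound.UnivInjPush

/-! from integral finite schemes to all sheaves -/

universe u

open CategoryTheory CategoryTheory.Limits AlgebraicGeometry Opposite CategoryTheory.Abelian TopologicalSpace

namespace Groth.Agent.CdInt

set_option autoImplicit false
set_option maxHeartbeats 1000000
set_option synthInstance.maxHeartbeats 400000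
set_option backward.isDefEq.respectTransparency false
set_option backward.isDefEq.respectTransparency.types false
set_option linter.style.haveILetI false

/-- stalks at geometric points of the spectrum of a field have the same cardinality -/
theorem natCard_stalk_eq {A : Scheme.{u}} [Subsingleton A] (G : EtCoh.Ab A) {Ω Ω' : Type u} [Field Ω] [IsSepClosed Ω]
    [Field Ω'] [IsSepClosed Ω'] (ξ : Spec (CommRingCat.of Ω) ⟶ A) (ξ' : Spec (CommRingCat.of Ω') ⟶ A) :
    Nat.card ((EtCoh.stalk ξ).obj G) = Nat.card ((EtCoh.stalk ξ').obj G) := by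
  obtain ⟨L, _, _, z, e, he⟩ := EtFound.exists_lift_extension ξ ξ' ⟨default, Subsingleton.elim _ _⟩
  refine (Nat.card_congr ((EtFound.stalkExtIso AddCommGrpCat.{u + 1} ξ z).app G).addCommGroupIsoToAddEquiv.toEquiv).trans
    (Eq.trans ?_ (Nat.card_congr
      ((EtFound.stalkExtIso AddCommGrpCat.{u + 1} ξ' e).app G).addCommGroupIsoToAddEquiv.toEquiv).symm)
  rw [← he]

/-- maps from constructible sheaves to primary sheaves are killed by a power of `ℓ` -/
theorem exists_killed_of_constructible {Y : Scheme.{u}} [CompactSpace Y] [QuasiSeparatedSpace Y] {ℓ : ℕ} (hℓ : ℓ.Prime)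
    (A : EtCoh.Ab Y) (hA : EtPBC.IsConstructible A) {G : EtCoh.Ab Y} (a : A ⟶ G) (hG : Dix.IsPrimaryTorsion ℓ G) :
    ∃ m : ℕ, ℓ ^ m • a = 0 := by
  obtain ⟨N, hN, hA0⟩ := EtFound.exists_killedBy Y hA
  obtain ⟨m, N', hN', rfl⟩ := Nat.exists_eq_pow_mul_and_not_dvd hN.ne' ℓ hℓ.ne_one
  refine ⟨m, Sheaf.hom_ext (NatTrans.ext (funext fun U => AddCommGrpCat.ext fun s => ?_))⟩
  obtain ⟨U⟩ := U
  refine (EtFound.nsmul_hom_app a (ℓ ^ m) U s).trans ?_
  have h1 : (ℓ ^ m * N') • a.hom.app (op U) s = 0 :=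
    (map_nsmul (a.hom.app (op U)).hom _ _).symm.trans
      ((congrArg (a.hom.app (op U)).hom ((EtFound.killedBy_iff_nsmul _ _).2 hA0 U s)).trans (map_zero _))
  refine EtTorLib.eq_zero_of_locally _ fun x => ?_
  obtain ⟨V, g, hv, k, hk⟩ := hG U (a.hom.app (op U) s) x
  obtain ⟨v, hv⟩ := hv
  refine ⟨V, g, v, ?_, hv⟩
  let b : G.obj.obj (op V) := G.obj.map g.op (a.hom.app (op U) s)
  have h2 : addOrderOf b ∣ ℓ ^ m * N' := addOrderOf_dvd_of_nsmul_eq_zero
    ((map_nsmul (G.obj.map g.op).hom _ _).symm.trans ((congrArg (G.obj.map g.op).hom h1).trans (map_zero _)))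
  have h3 : addOrderOf b ∣ ℓ ^ k := addOrderOf_dvd_of_nsmul_eq_zero hk
  have h4 : addOrderOf b ∣ ℓ ^ m :=
    (Nat.Coprime.coprime_dvd_left h3 (((Nat.Prime.coprime_iff_not_dvd hℓ).2 hN').pow_left k)).dvd_of_dvd_mul_right h2
  exact (map_nsmul (G.obj.map g.op).hom _ _).trans (addOrderOf_dvd_iff_nsmul_eq_zero.1 h4)

variable {X : Scheme.{u}} [AlgebraicGeometry.IsNoetherian X] {φ : ∀ (Y : Scheme.{u}), (Y ⟶ X) → ℕ} {ℓ : ℕ}

theorem isNoetherian_source {Y : Scheme.{u}} (g : Y ⟶ X) [IsFinite g] : AlgebraicGeometry.IsNoetherian Y := by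
  haveI := LocallyOfFiniteType.isLocallyNoetherian g
  haveI : CompactSpace Y := QuasiCompact.compactSpace_of_compactSpace g
  exact { }

/-- constructible sheaves of a point -/
theorem subsingleton_H_push_point (hℓ : ℓ.Prime) (hφ : IsDimFun X φ) (hc : ConstBound φ ℓ) {n : ℕ} (hb : Bound φ ℓ n)
    {Y : Scheme.{u}} (g : Y ⟶ X) [IsFinite g] (y : Y) (hy : φpt φ g y ≤ n) (q : ℕ) (hq : n < q) (m : ℕ)
    (G : EtCoh.Ab (Spec (Y.residueField y))) (hGc : EtPBC.IsConstructible G) (hGm : ℓ ^ m • 𝟙 G = 0) :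
    Subsingleton (EtCoh.H Y ((EtCoh.push (CurveCd.ptMor y)).obj G) q) := by
  obtain ⟨W, c, _, _, rfl, hcr, e⟩ := exists_φpt φ g y
  rw [e] at hy
  haveI : ∀ {A B : Scheme.{u}} (f : A ⟶ B), PreservesFiniteLimits (EtCoh.pull f) := fun f => EtContLib.pfl f
  haveI := isIso_residueFieldMap c (genericPoint W)
  let p : Spec (W.residueField (genericPoint W)) ⟶ Spec (Y.residueField (c.base (genericPoint W))) :=
    Spec.map (c.residueFieldMap (genericPoint W))
  haveI : IsIso p := inferInstanceAs (IsIso (Spec.map (c.residueFieldMap (genericPoint W))))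
  haveI : (EtCoh.pull p).Additive := (EtCoh.pullPushAdj p).left_adjoint_additive
  have hsq : p ≫ CurveCd.ptMor (c.base (genericPoint W)) = CurveCd.ptMor (genericPoint W) ≫ c :=
    Scheme.Hom.SpecMap_residueFieldMap_fromSpecResidueField c (genericPoint W)
  let G' := (EtCoh.pull p).obj G
  have hG'c : EtPBC.IsConstructible G' := EtFound.isConstructible_pull p hGc
  obtain ⟨Ω₀, _, _, ξ₀, -, -⟩ := EtFound.exists_algClosed_point (EtCoh.top (Spec (W.residueField (genericPoint W))))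
    (default : Spec (W.residueField (genericPoint W)))
  haveI := EtFound.finite_stalk_of_isConstructible hG'c ξ₀
  haveI : Subsingleton (EtCoh.H W ((EtCoh.push (CurveCd.ptMor (genericPoint W))).obj G') q) :=
    subsingleton_H_push_generic hℓ hφ hc hb q hq m (Nat.card ((EtCoh.stalk ξ₀).obj G')) W (c ≫ g) hy G' hG'c
      (nsmul_map_eq_zero _ hGm) fun Ω _ _ ξ => (natCard_stalk_eq G' ξ ξ₀).le
  haveI : Subsingleton (EtCoh.H Y ((EtCoh.push c).obj ((EtCoh.push (CurveCd.ptMor (genericPoint W))).obj G')) q) :=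
    (Groth.Agent.S14451.result c _ (fun i hi => Groth.Agent.S3054.result c _ i hi) q).1.subsingleton
  haveI := EtFound.unit_isIso_of_surjective p G
  exact CdDim.subsingleton_H_of_iso' ((EtCoh.pushComp c (CurveCd.ptMor (genericPoint W))).app G' ≪≫
    (EtCoh.pushCongr hsq.symm).app G' ≪≫ ((EtCoh.pushComp (CurveCd.ptMor (c.base (genericPoint W))) p).app G').symm ≪≫
    (EtCoh.push (CurveCd.ptMor (c.base (genericPoint W)))).mapIso (asIso ((EtCoh.pullPushAdj p).unit.app G)).symm)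
    q ‹_›

/-- one step up -/
theorem bound_succ (hℓ : ℓ.Prime) (hφ : IsDimFun X φ) (hc : ConstBound φ ℓ) {n : ℕ} (hb : Bound φ ℓ n) :
    Bound φ ℓ (n + 1) := by
  intro Y g _ F hF hFs q hq
  haveI := isNoetherian_source g
  haveI : ∀ {A B : Scheme.{u}} (f : A ⟶ B), PreservesFiniteLimits (EtCoh.pull f) := fun f => EtContLib.pfl f
  let E : Set Y := {x | φpt φ g x ≤ n}
  have hE : StableUnderSpecialization E := fun a b hab ha =>
    le_trans (φpt_le hφ g g (𝟙 Y) (Category.id_comp g) b a hab) ha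
  suffices h : ∀ Z : Closeds Y, (Z : Set Y) ⊆ E → ∀ G : EtCoh.Ab Y, Dix.IsPrimaryTorsion ℓ G →
      EtPBC.supp G ⊆ (Z : Set Y) → Subsingleton (EtCoh.H Y G q) from
    CurveCd.subsingleton_H_of_closed F E hE (fun x hx => Nat.le_of_lt_succ (hFs x hx)) q fun Z hZ hZE =>
      h ⟨Z, hZ⟩ hZE _ (CdDim.primary_suppSub F Z hF) (CurveCd.supp_suppSub F Z)
  intro Z
  induction Z using WellFoundedLT.induction with
  | _ Z ih =>
    intro hZE G hG hGs
    by_cases hne : (Z : Set Y).Nonempty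
    swap
    · exact CurveCd.subsingleton_H_of_supp (hGs.trans (Set.not_nonempty_iff_eq_empty.1 hne).subset) q
    obtain ⟨y, hy, hmax⟩ := CurveCd.exists_maximal Z.isClosed hne
    obtain ⟨i, rfl⟩ : ∃ i, q = i + 1 := ⟨q - 1, by omega⟩
    -- constructible sheaves killed by a power of `ℓ`
    have hconstr : ∀ (B : EtCoh.Ab Y) (m : ℕ), EtPBC.IsConstructible B → ℓ ^ m • 𝟙 B = 0 →
        EtPBC.supp B ⊆ (Z : Set Y) → Subsingleton (EtCoh.H Y B (i + 1)) := by
      intro B m hBc hBm hBs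
      have hBp : Dix.IsPrimaryTorsion ℓ B := CdDim.primary_of_killed m B hBm
      haveI := (EtCoh.pullPushAdj (CurveCd.ptMor y)).left_adjoint_additive
      haveI := (EtCoh.pullPushAdj (CurveCd.ptMor y)).right_adjoint_additive
      refine CurveCd.subsingleton_H_of_step y B i
        (subsingleton_H_push_point hℓ hφ hc hb g y (hZE hy) (i + 1) (by omega) m _
          (EtFound.isConstructible_pull _ hBc) (nsmul_map_eq_zero _ hBm)) ?_ ?_
      · refine CurveCd.subsingleton_H_of_closed _ _ (CurveCd.stableUnderSpecialization_diff Z.isClosed hmax)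
          ((CurveCd.supp_kernel_unit y B).trans (Set.sdiff_subset_sdiff_left hBs)) (i + 1) fun W hW hWE => ?_
        refine ih ⟨W, hW⟩ ?_ ((hWE.trans Set.sdiff_subset).trans hZE) _
          (CdDim.primary_suppSub _ W (CdDim.primary_of_mono (kernel.ι (CurveCd.ptUnit y B)) hBp))
          (CurveCd.supp_suppSub _ W)
        refine lt_of_le_of_ne (hWE.trans Set.sdiff_subset) fun e => (hWE (?_ : y ∈ W)).2 rfl
        rw [← e] at hy
        exact hy
      · refine hb Y g _ (CdDim.primary_of_killed m _ (nsmul_eq_zero_of_epi (cokernel.π (CurveCd.ptUnit y B))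
          (nsmul_map_eq_zero (EtCoh.push _) (nsmul_map_eq_zero (EtCoh.pull _) hBm)))) (fun x hx => ?_) i (by omega)
        have h1 := CurveCd.supp_cokernel_unit y B hx
        exact lt_of_lt_of_le (φpt_lt hφ g (specializes_iff_mem_closure.2 h1.1) fun e => h1.2 e.symm) (hZE hy)
    -- constructible pieces
    obtain ⟨J, _, _, D, cc, hcc, ⟨e⟩, hD⟩ := EtTorLib.exists_colimit_supp (Z : Set Y) Z.isClosed.stableUnderSpecialization
      G (CdDim.isTorsion_of_primary hℓ hG) hGs fun U hU => by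
        haveI := hU
        let j : U.left ⟶ Y := U.hom
        haveI : AlgebraicGeometry.Etale j := U.prop
        haveI : IsLocallyNoetherian U.left := LocallyOfFiniteType.isLocallyNoetherian j
        haveI : AlgebraicGeometry.IsNoetherian U.left := {}
        haveI : NoetherianSpace U.left := AlgebraicGeometry.IsNoetherian.noetherianSpace
        exact NoetherianSpace.isCompact (j.base ⁻¹' (Z : Set Y)ᶜ)
    haveI := EtLC12.QcqsAcyclic.preservesColimitsOfShape_HF Y (i + 1) J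
    refine CdDim.subsingleton_H_of_iso' e (i + 1) (AddCommGrpCat.subsingleton_of_isZero ((IsZero.iff_id_eq_zero _).2
      ((isColimitOfPreserves (EtCoh.HF Y (i + 1)) hcc).hom_ext fun j => ?_)))
    let a : D.obj j ⟶ cc.pt := cc.ι.app j
    haveI : Mono e.hom := inferInstance
    obtain ⟨m, hm⟩ := exists_killed_of_constructible hℓ (D.obj j) (hD j).1 (a ≫ e.hom) hG
    obtain ⟨Z', -, hZ', hsZ'⟩ := (hD j).2
    have hfac : a = cokernel.π (ℓ ^ m • 𝟙 (D.obj j)) ≫ cokernel.desc (ℓ ^ m • 𝟙 (D.obj j)) a (by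
        rw [Preadditive.nsmul_comp, Category.id_comp]
        exact (cancel_mono e.hom).1 ((Preadditive.nsmul_comp a e.hom (ℓ ^ m)).trans (hm.trans zero_comp.symm))) :=
      (cokernel.π_desc _ _ _).symm
    haveI hz : Subsingleton (EtCoh.H Y (cokernel (ℓ ^ m • 𝟙 (D.obj j))) (i + 1)) := by
      refine hconstr _ m (EtFound.isConstructible_cokernel _ (hD j).1 (hD j).1) ?_ ?_
      · refine (cancel_epi (cokernel.π (ℓ ^ m • 𝟙 (D.obj j)))).1 ?_
        rw [Preadditive.comp_nsmul, Category.comp_id, comp_zero]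
        exact (show ℓ ^ m • cokernel.π (ℓ ^ m • 𝟙 (D.obj j)) = (ℓ ^ m • 𝟙 (D.obj j)) ≫ cokernel.π _ by
          rw [Preadditive.nsmul_comp, Category.id_comp]).trans (cokernel.condition _)
      · intro x hx
        obtain ⟨Ω, i1, i2, ξ, hξ, hz⟩ := hx
        exact hZ' (hsZ' ⟨Ω, i1, i2, ξ, hξ, fun h0 => hz
          (IsZero.of_epi ((EtCoh.stalk ξ).map (cokernel.π (ℓ ^ m • 𝟙 (D.obj j)))) h0)⟩)
    refine (congrArg (· ≫ _) ((congrArg (EtCoh.HF Y (i + 1)).map hfac).trans (Functor.map_comp _ _ _))).trans ?_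
    refine (Category.assoc _ _ _).trans ?_
    rw [(@AddCommGrpCat.isZero_of_subsingleton ((EtCoh.HF Y (i + 1)).obj _) hz).eq_of_tgt
      ((EtCoh.HF Y (i + 1)).map (cokernel.π (ℓ ^ m • 𝟙 (D.obj j)))) 0, zero_comp, comp_zero]

theorem bound_all (hℓ : ℓ.Prime) (hφ : IsDimFun X φ) (hc : ConstBound φ ℓ) : ∀ n, Bound φ ℓ n
  | 0 => fun Y _ _ F _ hs q _ => CurveCd.subsingleton_H_of_supp (fun x hx => absurd (hs x hx) (Nat.not_lt_zero _)) q
  | n + 1 => bound_succ hℓ hφ hc (bound_all hℓ hφ hc n)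

end Groth.Agent.CdInt
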