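import Groth.Agent.MdlHoriz.Pre
import Groth.Agent.H23.RedSub
import Groth.Agent.CurveCd.GenPt
import Groth.Agent.S0385
import Groth.Agent.AlgSpLib.EtLocalInst

/-! integral finite schemes with prescribed function field -/

universe u

open CategoryTheory CategoryTheory.Limits AlgebraicGeometry Opposite TopologicalSpace Polynomial

namespace Groth.Agent.CdInt

set_option autoImplicit false
set_option maxHeartbeats 1000000
set_option synthInstance.maxHeartbeats 400000
set_option backward.isDefEq.respectTransparency false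
set_option backward.isDefEq.respectTransparency.types false
set_option linter.style.haveILetI false

/-- the closure of a point -/
theorem exists_closure {Y : Scheme.{u}} (z : Y) :
    ∃ (Z : Scheme.{u}) (c : Z ⟶ Y) (_ : IsClosedImmersion c) (_ : IsIntegral Z),
      c.base (genericPoint Z) = z ∧ Set.range c.base = closure {z} := by
  obtain ⟨Z, c, _, _, hc⟩ := MdlHoriz.exists_integral_closed z
  exact ⟨Z, c, ‹_›, ‹_›, hc, (MdlInter.range_eq_closure_gen c).trans (by rw [hc])⟩

/-- residue fields along a preimmersion -/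
theorem bijective_residueFieldMap {A B : Scheme.{u}} (p : A ⟶ B) [IsPreimmersion p] (a : A) :
    Function.Bijective (p.residueFieldMap a).hom :=
  ⟨(p.residueFieldMap a).hom.injective, fun t => by
    obtain ⟨t, rfl⟩ := A.residue_surjective a t
    obtain ⟨s, rfl⟩ := p.stalkMap_surjective a t
    exact ⟨B.residue _ s, congrArg (fun r => r s) (Scheme.residue_residueFieldMap p a)⟩⟩

theorem isIso_residueFieldMap {A B : Scheme.{u}} (p : A ⟶ B) [IsPreimmersion p] (a : A) :
    IsIso (p.residueFieldMap a) :=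
  (ConcreteCategory.isIso_iff_bijective _).2 (bijective_residueFieldMap p a)

/-- a morphism from the spectrum of a field which is a point with the same residue field -/
def IsPt {L : Type u} [Field L] {A : Scheme.{u}} (m : Spec (CommRingCat.of L) ⟶ A) : Prop :=
  ∃ (a : A) (ψ : A.residueField a ⟶ CommRingCat.of L), Function.Surjective ψ ∧
    Spec.map ψ ≫ A.fromSpecResidueField a = m

theorem IsPt.comp {L : Type u} [Field L] {A B : Scheme.{u}} {m : Spec (CommRingCat.of L) ⟶ A} (hm : IsPt m)
    (p : A ⟶ B) [IsPreimmersion p] : IsPt (m ≫ p) := by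
  obtain ⟨a, ψ, hψ, rfl⟩ := hm
  refine ⟨p.base a, p.residueFieldMap a ≫ ψ, fun t => ?_, ?_⟩
  · obtain ⟨s, rfl⟩ := hψ t
    obtain ⟨r, rfl⟩ := (bijective_residueFieldMap p a).2 s
    exact ⟨r, rfl⟩
  · rw [Spec.map_comp, Category.assoc, Scheme.Hom.SpecMap_residueFieldMap_fromSpecResidueField, Category.assoc]

theorem IsPt.of_comp {L : Type u} [Field L] {A B : Scheme.{u}} (m : Spec (CommRingCat.of L) ⟶ A)
    (p : A ⟶ B) (h : IsPt (m ≫ p)) : IsPt m := by
  obtain ⟨b, ψ, hψ, hm⟩ := h
  obtain ⟨⟨a, χ⟩, rfl⟩ := (Scheme.SpecToEquivOfField L A).symm.surjective m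
  refine ⟨a, χ, fun t => ?_, rfl⟩
  have hb : b = p.base a := by
    have h1 := congrArg (fun r : Spec (CommRingCat.of L) ⟶ B => r.base (default : Spec (CommRingCat.of L))) hm
    refine Eq.trans ?_ (h1.trans ?_)
    · exact ((Scheme.Hom.comp_apply _ _ _).trans (Scheme.fromSpecResidueField_apply b _)).symm
    · show ((Spec.map χ ≫ A.fromSpecResidueField a) ≫ p).base _ = _
      rw [Scheme.Hom.comp_apply, Scheme.Hom.comp_apply, Scheme.fromSpecResidueField_apply]
  subst hb
  have he : ψ = p.residueFieldMap a ≫ χ := Spec.map_injective ((cancel_mono (B.fromSpecResidueField (p.base a))).1 (by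
    rw [hm, Spec.map_comp, Category.assoc, Scheme.Hom.SpecMap_residueFieldMap_fromSpecResidueField]
    exact Category.assoc _ _ _))
  obtain ⟨s, rfl⟩ := hψ t
  exact ⟨p.residueFieldMap a s, by rw [he]; rfl⟩

/-- finite separable extensions of residue fields are residue fields of finite integral schemes -/
theorem exists_model {Y : Scheme.{u}} [IsNoetherian Y] (y : Y) (L : Type u) [Field L]
    [Algebra (Y.residueField y) L] [FiniteDimensional (Y.residueField y) L] [Algebra.IsSeparable (Y.residueField y) L] :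
    ∃ (Y' : Scheme.{u}) (ρ : Y' ⟶ Y) (_ : IsIntegral Y') (_ : IsFinite ρ)
      (e : Spec (CommRingCat.of L) ≅ Spec (Y'.residueField (genericPoint Y'))),
      e.hom ≫ Y'.fromSpecResidueField (genericPoint Y') ≫ ρ =
        Spec.map (CommRingCat.ofHom (algebraMap (Y.residueField y) L)) ≫ Y.fromSpecResidueField y := by
  classical
  let K : Type u := Y.residueField y
  let pb := Field.powerBasisOfFiniteOfSeparable K L
  have hint : _root_.IsIntegral K pb.gen := Algebra.IsIntegral.isIntegral _
  obtain ⟨A, hA, hy, hc⟩ := CurveCd.exists_affine_values y (minpoly K pb.gen).coeffs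
  let φ : Γ(Y, A) →+* K := (Y.presheaf.germ A y hy ≫ Y.residue y).hom
  obtain ⟨f, hf, -, hfm⟩ := Polynomial.lifts_and_natDegree_eq_and_monic
    (f := φ) (p := minpoly K pb.gen) ((Polynomial.lifts_iff_coeff_lifts _).2 fun n => by
      by_cases h0 : (minpoly K pb.gen).coeff n = 0
      · exact ⟨0, by rw [map_zero, h0]⟩
      · exact hc _ (Polynomial.coeff_mem_coeffs h0)) (minpoly.monic hint)
  let R := AdjoinRoot f
  let q : R →+* L := AdjoinRoot.lift ((algebraMap K L).comp φ) pb.gen (by
    rw [← Polynomial.eval₂_map, hf, ← Polynomial.aeval_def, minpoly.aeval])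
  have hroot : q (AdjoinRoot.root f) = pb.gen :=
    AdjoinRoot.lift_root (i := (algebraMap K L).comp φ) (a := pb.gen) (by
      rw [← Polynomial.eval₂_map, hf, ← Polynomial.aeval_def, minpoly.aeval])
  let b : Spec (CommRingCat.of R) ⟶ Spec Γ(Y, A) := Spec.map (CommRingCat.ofHom (AdjoinRoot.of f))
  haveI : IsFinite b := by
    haveI : Module.Finite Γ(Y, A) R := hfm.finite_adjoinRoot
    exact (IsFinite.SpecMap_iff _).2 (RingHom.finite_algebraMap.2 ‹Module.Finite Γ(Y, A) R› :
      RingHom.Finite (algebraMap Γ(Y, A) R))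
  haveI : IsOpenImmersion hA.fromSpec := inferInstance
  haveI : IsLocallyNoetherian (Spec Γ(Y, A)) := isLocallyNoetherian_of_isOpenImmersion hA.fromSpec
  haveI : QuasiCompact hA.fromSpec := inferInstance
  haveI : CompactSpace Y := inferInstance
  obtain ⟨T, j, π, hj, -, hπ, hjπ⟩ := Groth.Agent.S0385.result (b ≫ hA.fromSpec)
  haveI := hj
  haveI := hπ
  let w : Spec (CommRingCat.of L) ⟶ Spec (CommRingCat.of R) := Spec.map (CommRingCat.ofHom q)
  have hwY : w ≫ b ≫ hA.fromSpec =
      Spec.map (CommRingCat.ofHom (algebraMap K L)) ≫ Y.fromSpecResidueField y := by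
    rw [← CurveCd.fromSpecResidueField_eq hA y hy, ← Category.assoc, ← Category.assoc, ← Spec.map_comp,
      ← Spec.map_comp]
    refine congrArg (· ≫ hA.fromSpec) (congrArg Spec.map ?_)
    ext r
    show q (AdjoinRoot.of f r) = _
    refine Eq.trans (AdjoinRoot.lift_of (i := (algebraMap K L).comp φ) (a := pb.gen) _) ?_
    rfl
  have hw : IsPt w := by
    obtain ⟨⟨v, ψ⟩, hψ⟩ := (Scheme.SpecToEquivOfField L (Spec (CommRingCat.of R))).symm.surjective w
    have hψ' : Spec.map ψ ≫ (Spec (CommRingCat.of R)).fromSpecResidueField v = w := hψ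
    obtain ⟨χ, hχ⟩ : ∃ χ : CommRingCat.of R ⟶ (Spec (CommRingCat.of R)).residueField v,
        Spec.map χ = (Spec (CommRingCat.of R)).fromSpecResidueField v := ⟨_, Spec.map_preimage _⟩
    have hq : CommRingCat.ofHom q = χ ≫ ψ := Spec.map_injective (by rw [Spec.map_comp, hχ, hψ'])
    have hy' : (b ≫ hA.fromSpec).base v = y := by
      have h1 := congrArg (fun r : Spec (CommRingCat.of L) ⟶ Y => r.base (default : Spec (CommRingCat.of L))) hwY
      refine Eq.trans ?_ (h1.trans ((Scheme.Hom.comp_apply _ _ _).trans (Scheme.fromSpecResidueField_apply y _)))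
      show _ = (w ≫ b ≫ hA.fromSpec).base (default : Spec (CommRingCat.of L))
      rw [← hψ', Category.assoc, Scheme.Hom.comp_apply, Scheme.Hom.comp_apply, Scheme.Hom.comp_apply,
        Scheme.fromSpecResidueField_apply, ← Scheme.Hom.comp_apply]
    subst hy'
    have hK : CommRingCat.ofHom (algebraMap K L) = (b ≫ hA.fromSpec).residueFieldMap v ≫ ψ := by
      refine Spec.map_injective ((cancel_mono (Y.fromSpecResidueField ((b ≫ hA.fromSpec).base v))).1 ?_)
      rw [← hwY, Spec.map_comp, Category.assoc, Scheme.Hom.SpecMap_residueFieldMap_fromSpecResidueField, ← hψ',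
        Category.assoc]
    refine ⟨v, ψ, fun t => ?_, hψ'⟩
    have htop : t ∈ Algebra.adjoin K ({pb.gen} : Set L) := by
      rw [pb.adjoin_gen_eq_top]
      exact Algebra.mem_top
    induction htop using Algebra.adjoin_induction with
    | mem a ha =>
      rw [Set.mem_singleton_iff.1 ha]
      exact ⟨χ (AdjoinRoot.root f), (congrArg (fun r => r.hom (AdjoinRoot.root f)) hq).symm.trans hroot⟩
    | algebraMap c => exact ⟨_, (congrArg (fun r => r.hom c) hK).symm⟩
    | add a c _ _ iha ihc =>
      obtain ⟨a', rfl⟩ := iha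
      obtain ⟨c', rfl⟩ := ihc
      exact ⟨a' + c', map_add _ _ _⟩
    | mul a c _ _ iha ihc =>
      obtain ⟨a', rfl⟩ := iha
      obtain ⟨c', rfl⟩ := ihc
      exact ⟨a' * c', map_mul _ _ _⟩
  have hwj : IsPt (w ≫ j) := hw.comp j
  obtain ⟨t, χ, -, ht⟩ := hwj
  obtain ⟨Y', c, _, _, hc, hcr⟩ := exists_closure t
  haveI : IsReduced (Spec (CommRingCat.of L)) := inferInstance
  obtain ⟨m', hm'⟩ := H23.RedSub.exists_lift_closed (w ≫ j) c (by
    rintro _ ⟨z, rfl⟩
    rw [hcr, ← ht, Scheme.Hom.comp_apply, Scheme.fromSpecResidueField_apply]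
    exact subset_closure rfl)
  obtain ⟨η, χ', hχ', hηm⟩ := IsPt.of_comp m' c (hm' ▸ hw.comp j)
  have hη : η = genericPoint Y' := c.isClosedEmbedding.injective (by
    have h1 := congrArg (fun r : Spec (CommRingCat.of L) ⟶ T => r.base (default : Spec (CommRingCat.of L)))
      ((congrArg (· ≫ c) hηm).trans (hm'.trans ht.symm))
    refine Eq.trans ?_ ((h1.trans ((Scheme.Hom.comp_apply _ _ _).trans (Scheme.fromSpecResidueField_apply t _))).trans hc.symm)
    show _ = ((Spec.map χ' ≫ Y'.fromSpecResidueField η) ≫ c).base (default : Spec (CommRingCat.of L))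
    rw [Scheme.Hom.comp_apply, Scheme.Hom.comp_apply, Scheme.fromSpecResidueField_apply])
  subst hη
  haveI : IsIso χ' := (ConcreteCategory.isIso_iff_bijective _).2 ⟨χ'.hom.injective, hχ'⟩
  refine ⟨Y', c ≫ π, ‹_›, inferInstance, asIso (Spec.map χ'), ?_⟩
  show Spec.map χ' ≫ Y'.fromSpecResidueField (genericPoint Y') ≫ c ≫ π = _
  rw [← Category.assoc, hηm, ← Category.assoc, hm', Category.assoc, hjπ, hwY]

end Groth.Agent.CdInt
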