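import Groth.Agent.CdInt.Model

/-! pointwise dimension functions -/

universe u

open CategoryTheory CategoryTheory.Limits AlgebraicGeometry Opposite TopologicalSpace

namespace Groth.Agent.CdInt

set_option autoImplicit false
set_option maxHeartbeats 1000000
set_option synthInstance.maxHeartbeats 400000
set_option backward.isDefEq.respectTransparency false
set_option backward.isDefEq.respectTransparency.types false
set_option linter.style.haveILetI false

/-- the axioms of a dimension function on integral finite schemes -/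
def IsDimFun (X : Scheme.{u}) (φ : ∀ (Y : Scheme.{u}), (Y ⟶ X) → ℕ) : Prop :=
  ∀ (Y₁ Y₂ : Scheme.{u}) (g₁ : Y₁ ⟶ X) (g₂ : Y₂ ⟶ X) [IsIntegral Y₁] [IsIntegral Y₂] [IsFinite g₁] [IsFinite g₂]
    (m : Y₁ ⟶ Y₂), m ≫ g₂ = g₁ → φ Y₁ g₁ ≤ φ Y₂ g₂ ∧ (IsClosedImmersion m → ¬ IsIso m → φ Y₁ g₁ < φ Y₂ g₂)

variable {X : Scheme.{u}} (φ : ∀ (Y : Scheme.{u}), (Y ⟶ X) → ℕ)

/-- the value at a point -/
noncomputable def φpt {Y : Scheme.{u}} (g : Y ⟶ X) (z : Y) : ℕ :=
  φ (exists_closure z).choose ((exists_closure z).choose_spec.choose ≫ g)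

theorem exists_φpt {Y : Scheme.{u}} (g : Y ⟶ X) (z : Y) :
    ∃ (Z : Scheme.{u}) (c : Z ⟶ Y) (_ : IsClosedImmersion c) (_ : IsIntegral Z),
      c.base (genericPoint Z) = z ∧ Set.range c.base = closure {z} ∧ φpt φ g z = φ Z (c ≫ g) := by
  obtain ⟨h1, h2, h3, h4⟩ := (exists_closure z).choose_spec.choose_spec
  exact ⟨_, _, h1, h2, h3, h4, rfl⟩

variable {φ}

theorem φpt_le (hφ : IsDimFun X φ) {Y Y' : Scheme.{u}} (g : Y ⟶ X) [IsFinite g] (g' : Y' ⟶ X) [IsFinite g']
    (m : Y' ⟶ Y) (hm : m ≫ g = g') (z' : Y') (z : Y) (hz : z ⤳ m.base z') : φpt φ g' z' ≤ φpt φ g z := by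
  obtain ⟨Z, c, _, _, hc, hcr, e⟩ := exists_φpt φ g z
  obtain ⟨Z', c', _, _, hc', hcr', e'⟩ := exists_φpt φ g' z'
  rw [e, e']
  obtain ⟨l, hl⟩ := H23.RedSub.exists_lift_closed (c' ≫ m) c (by
    rintro _ ⟨v, rfl⟩
    have hsp : z' ⤳ c'.base v := specializes_iff_mem_closure.2 (hcr'.le ⟨v, rfl⟩)
    rw [hcr, Scheme.Hom.comp_apply]
    exact specializes_iff_mem_closure.1 (hz.trans (hsp.map m.continuous)))
  exact (hφ _ _ _ _ l (by rw [← Category.assoc, hl, Category.assoc, hm])).1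

theorem φpt_lt (hφ : IsDimFun X φ) {Y : Scheme.{u}} (g : Y ⟶ X) [IsFinite g] {z w : Y} (hzw : z ⤳ w)
    (hne : z ≠ w) : φpt φ g w < φpt φ g z := by
  obtain ⟨Z, c, _, _, hc, hcr, e⟩ := exists_φpt φ g z
  obtain ⟨W, d, _, _, hd, hdr, e'⟩ := exists_φpt φ g w
  rw [e, e']
  obtain ⟨l, hl⟩ := H23.RedSub.exists_lift_closed d c (by
    rw [hdr, hcr]
    exact closure_minimal (Set.singleton_subset_iff.2 (specializes_iff_mem_closure.1 hzw)) isClosed_closure)
  haveI : IsClosedImmersion (l ≫ c) := by rw [hl]; infer_instance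
  haveI : IsClosedImmersion l := IsClosedImmersion.of_comp l c
  refine (hφ _ _ _ _ l (by rw [← Category.assoc, hl])).2 inferInstance fun hiso => hne ?_
  obtain ⟨v, hv⟩ := (l.homeomorph.surjective) (genericPoint Z)
  have h1 : genericPoint W ⤳ v := (genericPoint_spec W).specializes trivial
  have h2 : w ⤳ z := by
    rw [← hd, ← hc, ← hv]
    have h3 := (h1.map l.continuous).map c.continuous
    rw [← Scheme.Hom.comp_apply, hl] at h3
    exact h3
  exact (Specializes.antisymm hzw h2).eq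

theorem φpt_genericPoint (hφ : IsDimFun X φ) {Y : Scheme.{u}} [IsIntegral Y] (g : Y ⟶ X) [IsFinite g] :
    φpt φ g (genericPoint Y) = φ Y g := by
  obtain ⟨Z, c, _, _, hc, hcr, e⟩ := exists_φpt φ g (genericPoint Y)
  rw [e]
  obtain ⟨l, hl⟩ := H23.RedSub.exists_lift_closed (𝟙 Y) c (by
    rw [hcr, (genericPoint_spec Y).def]
    exact Set.subset_univ _)
  exact le_antisymm (hφ _ _ _ _ c rfl).1 (hφ _ _ _ _ l (by rw [← Category.assoc, hl, Category.id_comp])).1

end Groth.Agent.CdInt
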