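import Groth.Agent.CdInt.SylowStep
import Groth.Agent.CdInt.PtFun
import Groth.Agent.CdDim.TorsionAll
import Groth.Agent.CdDim.Primary
import Groth.Agent.EtFound.Strata
import Groth.Agent.S12531
import Groth.Agent.S3054
import Groth.Agent.S0071
import Groth.Agent.EtTorLib.TorsorKill
import Groth.Agent.EtFound.PullStalk

/-! sheaves pushed forward from the generic point of an integral finite scheme -/

universe u

open CategoryTheory CategoryTheory.Limits AlgebraicGeometry Opposite CategoryTheory.Abelian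

namespace Groth.Agent.CdInt

set_option autoImplicit false
set_option maxHeartbeats 1000000
set_option synthInstance.maxHeartbeats 400000
set_option backward.isDefEq.respectTransparency false
set_option backward.isDefEq.respectTransparency.types false
set_option linter.style.haveILetI false

theorem const_nsmul (Y : Scheme.{u}) (ℓ : ℕ) : ℓ • 𝟙 (EtCoh.const Y (ZMod ℓ)) = 0 := by
  haveI : (EtCore.gsec Y).Additive := ⟨fun {_ _ _ _} => rfl⟩
  haveI : (constantSheaf Y.smallEtaleTopology AddCommGrpCat.{u + 1}).Additive :=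
    (EtCore.constAdj _).left_adjoint_additive
  show ℓ • 𝟙 ((constantSheaf _ AddCommGrpCat.{u + 1}).obj _) = 0
  rw [← CategoryTheory.Functor.map_id, ← Functor.map_nsmul]
  refine Eq.trans (congrArg _ ?_) (Functor.map_zero _ _ _)
  exact AddCommGrpCat.ext fun a => ULift.ext _ _ (by
    show ℓ • (a.down : ZMod ℓ) = 0
    simp)

theorem nsmul_map_eq_zero {A B : Scheme.{u}} (P : EtCoh.Ab A ⥤ EtCoh.Ab B) [P.Additive] {n : ℕ} {G : EtCoh.Ab A}
    (h : n • 𝟙 G = 0) : n • 𝟙 (P.obj G) = 0 := by
  rw [← P.map_id, ← Functor.map_nsmul, h, Functor.map_zero]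

theorem nsmul_eq_zero_of_epi {A : Scheme.{u}} {n : ℕ} {G Q : EtCoh.Ab A} (a : G ⟶ Q) [Epi a] (h : n • 𝟙 G = 0) :
    n • 𝟙 Q = 0 := by
  refine (cancel_epi a).1 ?_
  rw [Preadditive.comp_nsmul, Category.comp_id, comp_zero, ← Category.id_comp a, ← Preadditive.nsmul_comp, h, zero_comp]

theorem natCard_stalk_mul {A : Scheme.{u}} {S : ShortComplex (EtCoh.Ab A)} (hS : S.ShortExact) {Ω : Type u} [Field Ω]
    [IsSepClosed Ω] (ξ : Spec (CommRingCat.of Ω) ⟶ A) :
    Nat.card ((EtCoh.stalk ξ).obj S.X₂) =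
      Nat.card ((EtCoh.stalk ξ).obj S.X₁) * Nat.card ((EtCoh.stalk ξ).obj S.X₃) := by
  have h := hS.map_of_exact (EtCoh.stalk ξ)
  haveI := h.mono_f
  haveI := h.epi_g
  let f := ((EtCoh.stalk ξ).map S.f).hom
  let g := ((EtCoh.stalk ξ).map S.g).hom
  have hi : Function.Injective f := (AddCommGrpCat.mono_iff_injective _).1 h.mono_f
  have hs : Function.Surjective g := (AddCommGrpCat.epi_iff_surjective _).1 h.epi_g
  have hx : f.range = g.ker := ShortComplex.ab_exact_iff_range_eq_ker.1 h.exact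
  rw [AddSubgroup.card_eq_card_quotient_mul_card_addSubgroup g.ker,
    Nat.card_congr (QuotientAddGroup.quotientKerEquivOfSurjective g hs).toEquiv, ← hx,
    ← Nat.card_congr (AddMonoidHom.ofInjective hi).toEquiv, mul_comm]

theorem natCard_stalk_const (Y : Scheme.{u}) (ℓ : ℕ) {Ω : Type u} [Field Ω] [IsSepClosed Ω]
    (ξ : Spec (CommRingCat.of Ω) ⟶ Y) : Nat.card ((EtCoh.stalk ξ).obj (EtCoh.const Y (ZMod ℓ))) = ℓ := by
  have hb := EtFound.toSheafify_const_germ_bijective ξ AddCommGrpCat.{u + 1}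
    (AddCommGrpCat.of (ULift.{u + 1} (ZMod ℓ))) (EtCoh.top Y) (CategoryTheory.Over.homMk ξ (Category.comp_id ξ))
  exact (Nat.card_congr (Equiv.ofBijective _ hb).symm).trans ((Nat.card_congr Equiv.ulift).trans (Nat.card_zmod ℓ))

theorem isConstructible_const (Y : Scheme.{u}) (M : Type) [AddCommGroup M] [Finite M] :
    EtPBC.IsConstructible (EtCoh.const Y M) := by
  refine EtFound.isConstructible_of_pieces fun V _ y _ => ⟨Set.univ, trivial, ⟨Y, 𝟙 Y, inferInstance, ?_, ?_⟩, ?_⟩
  · simp
  · exact EtFound.isFiniteLocallyConstant_of_iso (EtCore.pullConst (𝟙 Y) M).symm (EtTorLib.isFiniteLocallyConstant_const M)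
  · rw [Set.preimage_univ]
    exact Topology.IsConstructible.univ

variable {X : Scheme.{u}} {φ : ∀ (Y : Scheme.{u}), (Y ⟶ X) → ℕ} {ℓ : ℕ}

/-- vanishing for sheaves whose support has values below `n` -/
def Bound (φ : ∀ (Y : Scheme.{u}), (Y ⟶ X) → ℕ) (ℓ n : ℕ) : Prop :=
  ∀ (Y : Scheme.{u}) (g : Y ⟶ X) [IsFinite g] (F : EtCoh.Ab Y), Dix.IsPrimaryTorsion ℓ F →
    (∀ x ∈ EtPBC.supp F, φpt φ g x < n) → ∀ q : ℕ, n ≤ q → Subsingleton (EtCoh.H Y F q)

/-- vanishing for the constant sheaves on integral finite schemes -/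
def ConstBound (φ : ∀ (Y : Scheme.{u}), (Y ⟶ X) → ℕ) (ℓ : ℕ) : Prop :=
  ∀ (Y : Scheme.{u}) (g : Y ⟶ X) [IsIntegral Y] [IsFinite g] (q : ℕ), φ Y g < q →
    Subsingleton (EtCoh.H Y (EtCoh.const Y (ZMod ℓ)) q)

variable [IsNoetherian X]

theorem φpt_lt_of_ne (hφ : IsDimFun X φ) {Y : Scheme.{u}} [IsIntegral Y] (g : Y ⟶ X) [IsFinite g] {x : Y}
    (hx : x ≠ genericPoint Y) {n : ℕ} (hn : φ Y g ≤ n) : φpt φ g x < n := by
  have h := φpt_lt hφ g ((genericPoint_spec Y).specializes (trivial : x ∈ Set.univ)) hx.symm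
  rw [φpt_genericPoint hφ] at h
  omega

/-- the constant sheaf of the generic point -/
theorem subsingleton_H_push_const (hℓ : ℓ.Prime) (hφ : IsDimFun X φ) (hc : ConstBound φ ℓ) {n : ℕ}
    (hb : Bound φ ℓ n) {Y : Scheme.{u}} [IsIntegral Y] (g : Y ⟶ X) [IsFinite g] (hn : φ Y g ≤ n) (q : ℕ) (hq : n < q) :
    Subsingleton (EtCoh.H Y ((EtCoh.push (CurveCd.ptMor (genericPoint Y))).obj
      (EtCoh.const (Spec (Y.residueField (genericPoint Y))) (ZMod ℓ))) q) := by
  haveI : IsNoetherian Y := by
    haveI := LocallyOfFiniteType.isLocallyNoetherian g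
    haveI : CompactSpace Y := QuasiCompact.compactSpace_of_compactSpace g
    exact { }
  let η := genericPoint Y
  let G := EtCoh.const Y (ZMod ℓ)
  have hG : Dix.IsPrimaryTorsion ℓ G := CdDim.primary_of_killed 1 G (by rw [pow_one]; exact const_nsmul Y ℓ)
  let a := CurveCd.ptUnit η G
  have hK : Subsingleton (EtCoh.H Y (kernel a) (q + 1)) := hb Y g _ (CdDim.primary_of_mono (kernel.ι a) hG)
    (fun x hx => φpt_lt_of_ne hφ g (fun e => ((CurveCd.supp_kernel_unit η G) hx).2 e) hn) (q + 1) (by omega)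
  have hC : Subsingleton (EtCoh.H Y (cokernel a) q) := by
    refine hb Y g _ (CdDim.primary_of_killed 1 _ ?_)
      (fun x hx => φpt_lt_of_ne hφ g (fun e => ((CurveCd.supp_cokernel_unit η G) hx).2 e) hn) q (by omega)
    rw [pow_one]
    haveI := (EtCoh.pullPushAdj (CurveCd.ptMor η)).left_adjoint_additive
    haveI := (EtCoh.pullPushAdj (CurveCd.ptMor η)).right_adjoint_additive
    exact nsmul_eq_zero_of_epi (cokernel.π a)
      (nsmul_map_eq_zero (EtCoh.push _) (nsmul_map_eq_zero (EtCoh.pull _) (const_nsmul Y ℓ)))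
  have h1 : (ShortComplex.mk (kernel.ι a) (factorThruImage a) (by
      rw [← cancel_mono (Limits.image.ι a), Category.assoc, Limits.image.fac, kernel.condition, zero_comp])).ShortExact :=
    { exact := ShortComplex.exact_of_f_is_kernel _ (KernelFork.IsLimit.ofι' _ _ fun {W} k hk =>
        ⟨kernel.lift a k (by rw [← Limits.image.fac a, reassoc_of% hk, zero_comp]), kernel.lift_ι _ _ _⟩) }
  have h2 : (ShortComplex.mk (Limits.image.ι a) (cokernel.π a) (by
      rw [← cancel_epi (factorThruImage a), Limits.image.fac_assoc, cokernel.condition, comp_zero])).ShortExact :=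
    { exact := ShortComplex.exact_of_g_is_cokernel _ (CokernelCofork.IsColimit.ofπ' _ _ fun {W} k hk =>
        ⟨cokernel.desc a k (by rw [← Limits.image.fac a, Category.assoc, hk, comp_zero]), cokernel.π_desc _ _ _⟩) }
  have hI : Subsingleton (EtCoh.H Y (Limits.image a) q) := subsingleton_of_forall_eq 0 fun x => by
    obtain ⟨z, hz⟩ := Ext.covariant_sequence_exact₃ _ h1 x (rfl : q + 1 = _) (@Subsingleton.elim _ hK _ _)
    rw [← hz, @Subsingleton.elim _ (hc Y g q (by omega)) z 0, Ext.zero_comp]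
  have hmain : Subsingleton (EtCoh.H Y ((EtCoh.push (CurveCd.ptMor η)).obj ((EtCoh.pull (CurveCd.ptMor η)).obj G)) q) :=
    subsingleton_of_forall_eq 0 fun x => by
      obtain ⟨z, hz⟩ := Ext.covariant_sequence_exact₂ _ h2 x (@Subsingleton.elim _ hC _ _)
      rw [← hz, @Subsingleton.elim _ hI z 0, Ext.zero_comp]
  exact CdDim.subsingleton_H_of_iso' ((EtCoh.push (CurveCd.ptMor η)).mapIso (EtCore.pullConst (CurveCd.ptMor η) (ZMod ℓ))) q hmain

/-- constructible sheaves of the generic point -/
theorem subsingleton_H_push_generic (hℓ : ℓ.Prime) (hφ : IsDimFun X φ) (hc : ConstBound φ ℓ) {n : ℕ}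
    (hb : Bound φ ℓ n) (q : ℕ) (hq : n < q) (m : ℕ) :
    ∀ (N : ℕ) (Y : Scheme.{u}) [IsIntegral Y] (g : Y ⟶ X) [IsFinite g], φ Y g ≤ n →
      ∀ G : EtCoh.Ab (Spec (Y.residueField (genericPoint Y))), EtPBC.IsConstructible G → ℓ ^ m • 𝟙 G = 0 →
      (∀ (Ω : Type u) [Field Ω] [IsSepClosed Ω] (ξ : Spec (CommRingCat.of Ω) ⟶ Spec (Y.residueField (genericPoint Y))),
        Nat.card ((EtCoh.stalk ξ).obj G) ≤ N) →
      Subsingleton (EtCoh.H Y ((EtCoh.push (CurveCd.ptMor (genericPoint Y))).obj G) q) := by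
  haveI := Fact.mk hℓ
  haveI : ∀ {A B : Scheme.{u}} (f : A ⟶ B), PreservesFiniteLimits (EtCoh.pull f) := fun f => EtContLib.pfl f
  intro N
  induction N using Nat.strong_induction_on with
  | _ N ih =>
    intro Y _ g _ hn G hGc hGm hGN
    haveI : IsNoetherian Y := by
      haveI := LocallyOfFiniteType.isLocallyNoetherian g
      haveI : CompactSpace Y := QuasiCompact.compactSpace_of_compactSpace g
      exact { }
    let η := genericPoint Y
    let P := EtCoh.push (CurveCd.ptMor η)
    haveI : P.Additive := (EtCoh.pullPushAdj (CurveCd.ptMor η)).right_adjoint_additive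
    by_cases hG0 : IsZero G
    · exact AddCommGrpCat.subsingleton_of_isZero ((EtCoh.HF Y q).map_isZero (P.map_isZero hG0))
    let K : Type u := Y.residueField η
    obtain ⟨L, _, _, _, _, hd, h, hh⟩ := exists_sylow_zmod_mono (K := K) hGm hG0
    obtain ⟨Y', ρ, _, _, e, he⟩ := exists_model η L
    let L' : Type u := Y'.residueField (genericPoint Y')
    let π : Spec (CommRingCat.of L) ⟶ Spec (CommRingCat.of K) := Spec.map (CommRingCat.ofHom (algebraMap K L))
    let π' : Spec (Y'.residueField (genericPoint Y')) ⟶ Spec (Y.residueField η) := e.inv ≫ π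
    have hsq : π' ≫ CurveCd.ptMor η = CurveCd.ptMor (genericPoint Y') ≫ ρ := by
      show (e.inv ≫ π) ≫ Y.fromSpecResidueField η = _
      rw [Category.assoc, ← he, Iso.inv_hom_id_assoc]
    have hn' : φ Y' (ρ ≫ g) ≤ n := le_trans (hφ Y' Y (ρ ≫ g) g ρ rfl).1 hn
    let G' := (EtCoh.pull π').obj G
    haveI := (EtCoh.pullPushAdj π').left_adjoint_additive
    have hG'c : EtPBC.IsConstructible G' := EtFound.isConstructible_pull π' hGc
    have hG'm : ℓ ^ m • 𝟙 G' = 0 := nsmul_map_eq_zero _ hGm
    have hG'N : ∀ (Ω : Type u) [Field Ω] [IsSepClosed Ω] (ξ : Spec (CommRingCat.of Ω) ⟶ Spec (Y'.residueField (genericPoint Y'))),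
        Nat.card ((EtCoh.stalk ξ).obj G') ≤ N := fun Ω _ _ ξ => by
      refine le_of_eq_of_le ?_ (hGN Ω (ξ ≫ π'))
      exact Nat.card_congr
        ((EtFound.stalkPullIso π' ξ).app G).addCommGroupIsoToAddEquiv.toEquiv
    let h' : EtCoh.const (Spec (Y'.residueField (genericPoint Y'))) (ZMod ℓ) ⟶ G' :=
      (EtCore.pullConst e.inv (ZMod ℓ)).inv ≫ (EtCoh.pull e.inv).map h ≫ ((EtCore.pullComp e.inv π).app G).inv
    haveI : Mono h' := by
      haveI := hh
      haveI : Mono ((EtCoh.pull e.inv).map h) := inferInstance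
      infer_instance
    let S : ShortComplex (EtCoh.Ab (Spec (Y'.residueField (genericPoint Y')))) :=
      ShortComplex.mk h' (cokernel.π h') (cokernel.condition h')
    have hS : S.ShortExact :=
      { exact := ShortComplex.exact_of_g_is_cokernel _ (cokernelIsCokernel _) }
    have hQc : EtPBC.IsConstructible S.X₃ :=
      EtFound.isConstructible_cokernel h' (isConstructible_const _ (ZMod ℓ)) hG'c
    have hQm : ℓ ^ m • 𝟙 S.X₃ = 0 := nsmul_eq_zero_of_epi (cokernel.π h') hG'm
    have hQ : Subsingleton (EtCoh.H Y' ((EtCoh.push (CurveCd.ptMor (genericPoint Y'))).obj S.X₃) q) := by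
      obtain ⟨Ω₀, _, _, ξ₀, z₀, -⟩ := EtFound.exists_algClosed_point (EtCoh.top (Spec (Y'.residueField (genericPoint Y'))))
        (default : Spec (Y'.residueField (genericPoint Y')))
      have hcard : ∀ (Ω : Type u) [Field Ω] [IsSepClosed Ω] (ξ : Spec (CommRingCat.of Ω) ⟶ Spec (Y'.residueField (genericPoint Y'))),
          ℓ * Nat.card ((EtCoh.stalk ξ).obj S.X₃) ≤ N := fun Ω _ _ ξ => by
        have h1 := natCard_stalk_mul hS ξ
        rw [show Nat.card ((EtCoh.stalk ξ).obj S.X₁) = ℓ from natCard_stalk_const _ ℓ ξ] at h1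
        exact h1 ▸ hG'N Ω ξ
      have hlt : N / ℓ < N := by
        refine Nat.div_lt_self ?_ hℓ.one_lt
        haveI := EtFound.finite_stalk_of_isConstructible hQc ξ₀
        exact lt_of_lt_of_le (Nat.mul_pos hℓ.pos Nat.card_pos) (hcard Ω₀ ξ₀)
      exact ih (N / ℓ) hlt Y' (ρ ≫ g) hn' S.X₃ hQc hQm fun Ω _ _ ξ =>
        (Nat.le_div_iff_mul_le hℓ.pos).2 (by rw [mul_comm]; exact hcard Ω ξ)
    -- the middle term
    let P' := EtCoh.push (CurveCd.ptMor (genericPoint Y'))
    haveI : P'.Additive := (EtCoh.pullPushAdj (CurveCd.ptMor (genericPoint Y'))).right_adjoint_additive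
    haveI : PreservesFiniteLimits P' :=
      haveI := (EtCoh.pullPushAdj (CurveCd.ptMor (genericPoint Y'))).rightAdjoint_preservesLimits
      PreservesLimitsOfSize.preservesFiniteLimits.{0, 0} _
    have hmid : Subsingleton (EtCoh.H Y' (P'.obj G') q) := by
      let a := P'.map S.g
      haveI : Mono S.f := hS.mono_f
      have hw : P'.map S.f ≫ factorThruImage a = 0 := by
        rw [← cancel_mono (Limits.image.ι a), Category.assoc, Limits.image.fac, zero_comp]
        exact (P'.map_comp _ _).symm.trans ((congrArg P'.map S.zero).trans (P'.map_zero _ _))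
      have hker : (ShortComplex.mk (P'.map S.f) (factorThruImage a) hw).ShortExact :=
        haveI : Mono (P'.map S.f) := inferInstance
        { exact := by
            have h0 : (S.map P').Exact := hS.exact.map_of_mono_of_preservesKernel P' hS.mono_f inferInstance
            haveI : Mono (S.map P').f := inferInstanceAs (Mono (P'.map S.f))
            refine ShortComplex.exact_of_f_is_kernel _ (KernelFork.IsLimit.ofι' _ _ fun {W} k hk => ?_)
            have hk' : k ≫ a = 0 := (congrArg (k ≫ ·) (Limits.image.fac a)).symm.trans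
              ((Category.assoc _ _ _).symm.trans ((congrArg (· ≫ Limits.image.ι a) hk).trans zero_comp))
            exact KernelFork.IsLimit.lift' h0.fIsKernel k hk' }
      have hcok : (ShortComplex.mk (Limits.image.ι a) (cokernel.π a) (by
          rw [← cancel_epi (factorThruImage a), Limits.image.fac_assoc, cokernel.condition, comp_zero])).ShortExact :=
        { exact := ShortComplex.exact_of_g_is_cokernel _ (CokernelCofork.IsColimit.ofπ' _ _ fun {W} k hk =>
            ⟨cokernel.desc a k (by rw [← Limits.image.fac a, Category.assoc, hk, comp_zero]), cokernel.π_desc _ _ _⟩) }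
      obtain ⟨i, rfl⟩ : ∃ i, q = i + 1 := ⟨q - 1, by omega⟩
      have hepi : Epi ((EtCoh.pull (CurveCd.ptMor (genericPoint Y'))).map a) := by
        let adj := EtCoh.pullPushAdj (CurveCd.ptMor (genericPoint Y'))
        haveI := CurveCd.counit_isIso (genericPoint Y') S.X₂
        haveI := CurveCd.counit_isIso (genericPoint Y') S.X₃
        haveI := hS.epi_g
        have hnat : (EtCoh.pull (CurveCd.ptMor (genericPoint Y'))).map a =
            adj.counit.app S.X₂ ≫ S.g ≫ inv (adj.counit.app S.X₃) := by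
          rw [← Category.assoc, IsIso.eq_comp_inv]
          exact adj.counit.naturality S.g
        rw [hnat]
        infer_instance
      have hC : Subsingleton (EtCoh.H Y' (cokernel a) i) := by
        refine hb Y' (ρ ≫ g) _ (CdDim.primary_of_killed m _ (nsmul_eq_zero_of_epi (cokernel.π a) (nsmul_map_eq_zero P' hQm)))
          (fun x hx => φpt_lt_of_ne hφ (ρ ≫ g) (fun e =>
            (CurveCd.supp_cokernel_push (genericPoint Y') a hepi hx).2 e) hn') i (by omega)
      have hI : Subsingleton (EtCoh.H Y' (Limits.image a) (i + 1)) := subsingleton_of_forall_eq 0 fun x => by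
        obtain ⟨z, hz⟩ := Ext.covariant_sequence_exact₁ _ hcok x (@Subsingleton.elim _ hQ _ _) rfl
        rw [← hz, @Subsingleton.elim _ hC z 0, Ext.zero_comp]
      refine subsingleton_of_forall_eq 0 fun x => ?_
      obtain ⟨z, hz⟩ := Ext.covariant_sequence_exact₂ _ hker x (@Subsingleton.elim _ hI _ _)
      rw [← hz, @Subsingleton.elim _ (subsingleton_H_push_const hℓ hφ hc hb (ρ ≫ g) hn' (i + 1) hq) z 0, Ext.zero_comp]
    -- transfer along the finite etale extension
    haveI : AlgebraicGeometry.Etale π := FieldCd.etale_str K L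
    haveI : IsFinite π := (IsFinite.SpecMap_iff _).2 (RingHom.finite_algebraMap.2 inferInstance)
    haveI : IsFinite π' := inferInstanceAs (IsFinite (e.inv ≫ π))
    haveI : AlgebraicGeometry.Etale π' := inferInstanceAs (AlgebraicGeometry.Etale (e.inv ≫ π))
    haveI : Flat π' := inferInstance
    haveI : LocallyOfFinitePresentation π' := inferInstance
    let d := Module.finrank K L
    have hfr : ∀ x, Scheme.Hom.finrank π' x = d := fun x => by
      show Scheme.Hom.finrank (e.inv ≫ π) x = d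
      rw [Scheme.Hom.finrank_comp_left_of_isIso, Scheme.Hom.finrank_SpecMap_algebraMap,
        Module.rankAtStalk_eq_finrank_of_free]
      simp [d]
    haveI := EtFound.jCont π'
    obtain ⟨adj, hadj⟩ := Groth.Agent.S12531.result π' d hfr
    have hz : Subsingleton (EtCoh.H Y (P.obj ((EtCoh.push π').obj G')) q) := by
      haveI : Subsingleton (EtCoh.H Y' (P'.obj G') q) := hmid
      haveI : Subsingleton (EtCoh.H Y ((EtCoh.push ρ).obj (P'.obj G')) q) :=
        (Groth.Agent.S14451.result ρ (P'.obj G') (fun i hi => Groth.Agent.S3054.result ρ _ i hi) q).1.subsingleton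
      exact CdDim.subsingleton_H_of_iso' ((EtCoh.pushComp ρ (CurveCd.ptMor (genericPoint Y'))).app G' ≪≫
        (EtCoh.pushCongr hsq.symm).app G' ≪≫ ((EtCoh.pushComp (CurveCd.ptMor η) π').app G').symm) q ‹_›
    refine subsingleton_of_forall_eq 0 fun x => ?_
    have h1 : d • x = 0 := by
      rw [← GalTorLib.HF_map_nsmul (P.obj G) q d x, ← P.map_id, ← Functor.map_nsmul, ← hadj G, P.map_comp,
        Functor.map_comp, ConcreteCategory.comp_apply]
      exact (congrArg _ (@Subsingleton.elim _ hz _ (0 : EtCoh.H Y (P.obj ((EtCoh.push π').obj G')) q))).trans (map_zero _)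
    have h2 : ℓ ^ m • x = 0 := GalTorLib.ext_zero_of_nsmul_id (nsmul_map_eq_zero P hGm) x
    refine AddMonoid.addOrderOf_eq_one_iff.1 (Nat.eq_one_of_dvd_coprimes ?_ (addOrderOf_dvd_of_nsmul_eq_zero h2)
      (addOrderOf_dvd_of_nsmul_eq_zero h1))
    exact ((Nat.Prime.coprime_iff_not_dvd hℓ).2 hd).pow_left m

end Groth.Agent.CdInt
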