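import Groth.Agent.CdInt.TopSection
import Groth.Agent.FieldCd.Acyclic
import Mathlib.GroupTheory.Sylow

/-! a copy of `ℤ/ℓ` after an extension of degree prime to `ℓ` -/

universe u

open CategoryTheory CategoryTheory.Limits AlgebraicGeometry Opposite

namespace Groth.Agent.CdInt

set_option autoImplicit false
set_option maxHeartbeats 1000000
set_option synthInstance.maxHeartbeats 400000
set_option backward.isDefEq.respectTransparency false
set_option backward.isDefEq.respectTransparency.types false
set_option linter.style.haveILetI false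

open EtFound EtLC12.AffineLocalAcyclic

/-- sections over a subextension -/
theorem exists_section_over {K L M : Type u} [Field K] [Field L] [Field M] [Algebra K L] [Algebra K M] [Algebra L M]
    [IsScalarTower K L M] [FiniteDimensional K L] [Algebra.IsSeparable K L] [FiniteDimensional K M]
    [Algebra.IsSeparable K M] [FiniteDimensional L M] [Algebra.IsSeparable L M]
    [AlgebraicGeometry.Etale (Spec.map (CommRingCat.ofHom (algebraMap K L)))]
    [EtShriek.JCont (Spec.map (CommRingCat.ofHom (algebraMap K L)))]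
    (G : EtCoh.Ab (Spec (CommRingCat.of K))) (t : G.obj.obj (op (FieldCd.pt K M))) (ht : t ≠ 0) :
    ∃ t' : ((EtShriek.restrAlong (Spec.map (CommRingCat.ofHom (algebraMap K L)))).obj G).obj.obj
      (op (FieldCd.pt L M)), t' ≠ 0 := by
  have hw : Spec.map (CommRingCat.ofHom (algebraMap L M)) ≫ Spec.map (CommRingCat.ofHom (algebraMap K L)) =
      Spec.map (CommRingCat.ofHom (algebraMap K M)) := by
    rw [← Spec.map_comp, ← CommRingCat.ofHom_comp, ← IsScalarTower.algebraMap_eq]
  let π : Spec (CommRingCat.of L) ⟶ Spec (CommRingCat.of K) := Spec.map (CommRingCat.ofHom (algebraMap K L))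
  let ι : (EtShriek.compEtale π).obj (FieldCd.pt L M) ⟶ FieldCd.pt K M :=
    MorphismProperty.Over.homMk (𝟙 _) ((Category.id_comp _).trans hw.symm)
  let ι' : FieldCd.pt K M ⟶ (EtShriek.compEtale π).obj (FieldCd.pt L M) :=
    MorphismProperty.Over.homMk (𝟙 _) ((Category.id_comp _).trans hw)
  refine ⟨G.obj.map ι.op t, fun h => ht ?_⟩
  have h1 : G.obj.map ι'.op (G.obj.map ι.op t) = t := by
    rw [← Functor.map_comp_apply, ← op_comp,
      show ι' ≫ ι = 𝟙 _ from MorphismProperty.Over.Hom.ext (Category.id_comp _), op_id,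
      CategoryTheory.Functor.map_id]
    rfl
  rw [← h1]
  exact (congrArg (G.obj.map ι'.op) h).trans (map_zero _)

/-- nonzero sheaves killed by a prime power contain `ℤ/ℓ` after a finite extension of degree prime to `ℓ` -/
theorem exists_sylow_zmod_mono {K : Type u} [Field K] {ℓ m : ℕ} [Fact ℓ.Prime]
    {G : EtCoh.Ab (Spec (CommRingCat.of K))} (hm : ℓ ^ m • 𝟙 G = 0) (hG : ¬ IsZero G) :
    ∃ (L : Type u) (_ : Field L) (_ : Algebra K L) (_ : FiniteDimensional K L) (_ : Algebra.IsSeparable K L),
      ¬ ℓ ∣ Module.finrank K L ∧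
      ∃ h : EtCoh.const (Spec (CommRingCat.of L)) (ZMod ℓ) ⟶
          (EtCoh.pull (Spec.map (CommRingCat.ofHom (algebraMap K L)))).obj G, Mono h := by
  classical
  obtain ⟨M, _, _, _, _, t, ht⟩ := FieldCd.exists_galois_section hG
  obtain ⟨P⟩ : Nonempty (Sylow ℓ Gal(M/K)) := inferInstance
  let L : IntermediateField K M := IntermediateField.fixedField (P : Subgroup Gal(M/K))
  haveI : IsGalois L M := IsGalois.tower_top_intermediateField L
  have h1 : Module.finrank L M = Nat.card (P : Subgroup Gal(M/K)) := IntermediateField.finrank_fixedField_eq_card _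
  have h2 : Module.finrank K L * Module.finrank L M = Module.finrank K M := Module.finrank_mul_finrank K L M
  have h3 : Module.finrank K L = (P : Subgroup Gal(M/K)).index := by
    refine Nat.eq_of_mul_eq_mul_right (Nat.card_pos (α := (P : Subgroup Gal(M/K)))) ?_
    rw [← h1, h2, ← IsGalois.card_aut_eq_finrank K M, ← (P : Subgroup Gal(M/K)).card_mul_index, h1, mul_comm]
  obtain ⟨d, hd⟩ := IsPGroup.iff_card.1 P.isPGroup'
  refine ⟨L, inferInstance, inferInstance, inferInstance, inferInstance, h3 ▸ P.not_dvd_index, ?_⟩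
  let π : Spec (CommRingCat.of L) ⟶ Spec (CommRingCat.of K) := Spec.map (CommRingCat.ofHom (algebraMap K L))
  haveI : AlgebraicGeometry.Etale π := FieldCd.etale_str K L
  haveI := EtFound.jCont π
  haveI := (EtCoh.pullPushAdj π).left_adjoint_additive
  let e := (restrIsoPull π).app G
  have hm' : ℓ ^ m • 𝟙 ((EtShriek.restrAlong π).obj G) = 0 := by
    have h0 : ℓ ^ m • 𝟙 ((EtCoh.pull π).obj G) = 0 := by
      rw [← CategoryTheory.Functor.map_id, ← Functor.map_nsmul, hm, Functor.map_zero]
    rw [← e.hom_inv_id, ← Category.id_comp e.inv, ← Preadditive.comp_nsmul, ← Preadditive.nsmul_comp, h0, zero_comp, comp_zero]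
  obtain ⟨t', ht'⟩ := exists_section_over (L := L) G t ht
  obtain ⟨s, hs, hps⟩ := FieldCd.exists_top_section_of_section hm' M (h1.trans hd) t' ht'
  obtain ⟨h, hh, -⟩ := FieldCd.exists_zmod_mono_of_section s hs hps
  exact ⟨h ≫ e.hom, inferInstance⟩

end Groth.Agent.CdInt
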