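import Groth.Agent.FieldCd.ProP

/-! sheaves on points split by extensions of prime power degree -/

universe u

open CategoryTheory CategoryTheory.Limits AlgebraicGeometry Opposite

namespace Groth.Agent.FieldCd

set_option autoImplicit false
set_option maxHeartbeats 1000000
set_option synthInstance.maxHeartbeats 400000
set_option backward.isDefEq.respectTransparency false
set_option backward.isDefEq.respectTransparency.types false
set_option linter.style.haveILetI false

variable {k : Type u} [Field k]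

/-- a nonzero sheaf has a nonzero section over a finite Galois extension -/
theorem exists_galois_section {G : EtCoh.Ab (Spec (CommRingCat.of k))} (hG : ¬ IsZero G) :
    ∃ (M : Type u) (_ : Field M) (_ : Algebra k M) (_ : FiniteDimensional k M) (_ : IsGalois k M)
      (t : G.obj.obj (op (pt k M))), t ≠ 0 := by
  classical
  -- a nonzero section
  obtain ⟨U, s, hs⟩ : ∃ (U : (Spec (CommRingCat.of k)).Etale) (s : G.obj.obj (op U)), s ≠ 0 := by
    by_contra hne
    push Not at hne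
    refine hG ((IsZero.iff_id_eq_zero _).2 ?_)
    refine Sheaf.hom_ext (NatTrans.ext (funext fun U => AddCommGrpCat.ext fun s => ?_))
    exact (hne U.unop _).trans (hne U.unop _).symm
  obtain ⟨x, hx⟩ : ∃ x : U.left, ∀ (V : (Spec (CommRingCat.of k)).Etale) (g : V ⟶ U) (v : V.left),
      g.left.base v = x → G.obj.map g.op s ≠ 0 := by
    by_contra hne
    push Not at hne
    refine hs (EtTorLib.eq_zero_of_locally s fun x => ?_)
    obtain ⟨V, g, v, hv, h0⟩ := hne x
    exact ⟨V, g, v, h0, hv⟩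
  obtain ⟨M, _, _, _, _, g, z, hz⟩ := exists_galois_point k U x
  exact ⟨M, _, _, ‹_›, ‹_›, G.obj.map g.op s, hx _ g z hz⟩

/-- a nonzero section over a Galois extension of `p`-power degree gives a global one killed by `p` -/
theorem exists_top_section_of_section {p : ℕ} [Fact p.Prime] {G : EtCoh.Ab (Spec (CommRingCat.of k))} {m : ℕ}
    (hm : p ^ m • 𝟙 G = 0) (M : Type u) [Field M] [Algebra k M] [FiniteDimensional k M] [IsGalois k M]
    {d : ℕ} (hd : Module.finrank k M = p ^ d) (t₀ : G.obj.obj (op (pt k M))) (ht₀ : t₀ ≠ 0) :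
    ∃ t : G.obj.obj (op (EtCoh.top (Spec (CommRingCat.of k)))), t ≠ 0 ∧ p • t = 0 := by
  classical
  have hk : ∀ (U) (s : G.obj.obj (op U)), p ^ m • s = 0 := fun U s => (EtFound.killedBy_iff_nsmul _ _).2 hm U s
  -- the Galois action
  let act : (M ≃ₐ[k] M) → G.obj.obj (op (pt k M)) →+ G.obj.obj (op (pt k M)) :=
    fun γ => (G.obj.map (ptHom γ.toAlgHom).op).hom
  have act_one : ∀ a, act 1 a = a := fun a => by
    show G.obj.map (ptHom (AlgHom.id k M)).op a = a
    rw [ptHom_id, op_id, CategoryTheory.Functor.map_id]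
    rfl
  have act_mul : ∀ γ δ a, act (γ * δ) a = act γ (act δ a) := fun γ δ a => by
    show G.obj.map (ptHom (γ.toAlgHom.comp δ.toAlgHom)).op a = _
    rw [ptHom_comp, op_comp, Functor.map_comp_apply]
  let H : AddSubgroup (G.obj.obj (op (pt k M))) := AddSubgroup.closure (Set.range fun γ => act γ t₀)
  have hH : ∀ γ, ∀ a ∈ H, act γ a ∈ H := fun γ a ha => by
    induction ha using AddSubgroup.closure_induction with
    | mem a ha =>
      obtain ⟨δ, rfl⟩ := ha
      exact AddSubgroup.subset_closure ⟨γ * δ, act_mul γ δ t₀⟩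
    | zero => rw [map_zero]; exact zero_mem _
    | add a b _ _ iha ihb => rw [map_add]; exact add_mem iha ihb
    | neg a _ iha => rw [map_neg]; exact neg_mem iha
  letI : MulAction (M ≃ₐ[k] M) H :=
    { smul := fun γ a => ⟨act γ a.1, hH γ a.1 a.2⟩
      one_smul := fun a => Subtype.ext (act_one a.1)
      mul_smul := fun γ δ a => Subtype.ext (act_mul γ δ a.1) }
  have hp : p.Prime := Fact.out
  haveI : AddGroup.FG H := AddGroup.closure_finite_fg _
  haveI : Finite H := AddCommGroup.finite_of_fg_isAddTorsion H (fun a => isOfFinAddOrder_iff_nsmul_eq_zero.2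
    ⟨p ^ m, pow_pos hp.pos m, Subtype.ext ((AddSubmonoidClass.coe_nsmul a _).trans (hk _ a.1))⟩)
  have hdvd : p ∣ Nat.card H := by
    let a : H := ⟨t₀, AddSubgroup.subset_closure ⟨1, act_one t₀⟩⟩
    have h1 : addOrderOf a ∣ p ^ m := addOrderOf_dvd_of_nsmul_eq_zero
      (Subtype.ext ((AddSubmonoidClass.coe_nsmul a _).trans (hk _ _)))
    obtain ⟨i, -, hi⟩ := (Nat.dvd_prime_pow hp).1 h1
    have hi0 : i ≠ 0 := fun h => ht₀ (congrArg Subtype.val (AddMonoid.addOrderOf_eq_one_iff.1 (by rw [hi, h, pow_zero])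
      : a = 0))
    exact ((dvd_pow_self p hi0).trans hi.symm.dvd).trans (addOrderOf_dvd_natCard a)
  have hP : IsPGroup p (M ≃ₐ[k] M) := IsPGroup.of_card (n := d) (by rw [IsGalois.card_aut_eq_finrank, hd])
  obtain ⟨b, hb, hb0⟩ := hP.exists_fixed_point_of_prime_dvd_card_of_fixed_point (α := H) hdvd (a := 0)
    (fun γ => Subtype.ext (map_zero (act γ)))
  have hbt : ∀ γ, act γ b.1 = b.1 := fun γ => congrArg Subtype.val (hb γ)
  -- descent
  let X := Spec (CommRingCat.of k)
  let f : pt k M ⟶ EtCoh.top X := (EtCore.topIsTerminal X).from _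
  have hcov : Sieve.generate (Presieve.singleton f) ∈ X.smallEtaleTopology (EtCoh.top X) := by
    refine (EtFound.mem_topology_iff _).2 fun w => ?_
    exact ⟨pt k M, f, (default : PrimeSpectrum M), Sieve.le_generate _ _ _ (Presieve.singleton.mk),
      @Subsingleton.elim (PrimeSpectrum k) inferInstance _ _⟩
  have hsh := ((isSheaf_iff_isSheaf_of_type _ _).1
    ((sheafCompose X.smallEtaleTopology (forget AddCommGrpCat.{u + 1})).obj G).property).isSheafFor _ hcov
  rw [Presieve.isSheafFor_singleton] at hsh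
  obtain ⟨y', hy', -⟩ := hsh b.1 fun {Z} p₁ p₂ _ => by
    show G.obj.map p₁.op b.1 = G.obj.map p₂.op b.1
    refine sub_eq_zero.1 (EtTorLib.eq_zero_of_locally _ fun w => ?_)
    obtain ⟨N, _, _, _, _, a, v, hv⟩ := exists_galois_point k Z w
    refine ⟨pt k N, a, v, ?_, hv⟩
    obtain ⟨f₁, hf₁⟩ := exists_ptHom (a ≫ p₁)
    obtain ⟨f₂, hf₂⟩ := exists_ptHom (a ≫ p₂)
    obtain ⟨γ, hγ⟩ : ∃ γ : M ≃ₐ[k] M, f₁.comp γ.toAlgHom = f₂ := by
      refine ((Nat.bijective_iff_injective_and_card _).2 ⟨fun γ δ h => ?_, le_antisymm ?_ ?_⟩).2 f₂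
      · exact AlgEquiv.ext fun c => f₁.injective (congr($h c))
      · exact Nat.card_le_card_of_injective (fun γ : M ≃ₐ[k] M => f₁.comp γ.toAlgHom)
          fun γ δ h => AlgEquiv.ext fun c => f₁.injective (congr($h c))
      · rw [IsGalois.card_aut_eq_finrank]
        exact card_algHom_le_finrank k M N
    rw [map_sub, sub_eq_zero, ← Functor.map_comp_apply, ← Functor.map_comp_apply, ← op_comp, ← op_comp,
      hf₁, hf₂, ← hγ, ptHom_comp, op_comp, Functor.map_comp_apply]
    exact congrArg _ (hbt γ).symm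
  let y : G.obj.obj (op (EtCoh.top X)) := y'
  have hy : G.obj.map f.op y = b.1 := hy'
  have hy0 : y ≠ 0 := fun h => hb0 (Subtype.ext (by rw [← hy, h, map_zero]; rfl))
  obtain ⟨i, -, hi⟩ := (Nat.dvd_prime_pow hp).1 (addOrderOf_dvd_of_nsmul_eq_zero (hk _ y))
  obtain ⟨j, rfl⟩ : ∃ j, i = j + 1 := ⟨i - 1, by
    rcases i with _ | i
    · exact absurd (AddMonoid.addOrderOf_eq_one_iff.1 (hi.trans (pow_zero p))) hy0
    · omega⟩
  refine ⟨p ^ j • y, fun h => ?_, ?_⟩
  · have := Nat.le_of_dvd (pow_pos hp.pos j) (addOrderOf_dvd_of_nsmul_eq_zero h)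
    rw [hi] at this
    exact absurd this (not_le.2 (Nat.pow_lt_pow_right hp.one_lt (Nat.lt_succ_self j)))
  · rw [← mul_nsmul', ← pow_succ', ← hi, addOrderOf_nsmul_eq_zero]


/-- a global section killed by `p` gives a copy of `ℤ/p` -/
theorem exists_zmod_mono_of_section {p : ℕ} [Fact p.Prime] {G : EtCoh.Ab (Spec (CommRingCat.of k))}
    (t : G.obj.obj (op (EtCoh.top (Spec (CommRingCat.of k))))) (ht : t ≠ 0) (hpt : p • t = 0) :
    ∃ h : EtCoh.const (Spec (CommRingCat.of k)) (ZMod p) ⟶ G, Mono h ∧ h ≠ 0 := by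
  let X := Spec (CommRingCat.of k)
  let L : ZMod p →+ G.obj.obj (op (EtCoh.top X)) :=
    ZMod.lift p ⟨zmultiplesHom _ t, by simpa [natCast_zsmul] using hpt⟩
  have hL : L 1 = t :=
    ((congrArg L (Int.cast_one (R := ZMod p)).symm).trans (ZMod.lift_coe p _ 1)).trans (one_zsmul t)
  let φ : AddCommGrpCat.of (ULift.{u + 1} (ZMod p)) ⟶ (EtCore.gsec X).obj G :=
    AddCommGrpCat.ofHom (L.comp (AddEquiv.ulift : ULift.{u + 1} (ZMod p) ≃+ ZMod p).toAddMonoidHom)
  let h : EtCoh.const X (ZMod p) ⟶ G := ((EtCore.constAdj X).homEquiv _ _).symm φ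
  have hh : h ≠ 0 := fun e => by
    haveI : (EtCore.gsec X).Additive := ⟨fun {_ _ _ _} => rfl⟩
    have : φ = 0 := by
      rw [← ((EtCore.constAdj X).homEquiv _ _).apply_symm_apply φ]
      show (EtCore.constAdj X).homEquiv _ _ h = 0
      rw [e, Adjunction.homEquiv_unit, Functor.map_zero, comp_zero]
    exact ht (hL.symm.trans (ConcreteCategory.congr_hom this (⟨1⟩ : ULift.{u + 1} (ZMod p))))
  refine ⟨h, ?_, hh⟩
  have hcase : ∀ (Ω : Type u) [Field Ω] [IsSepClosed Ω] (ξ : Spec (CommRingCat.of Ω) ⟶ X),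
      Function.Injective ((EtCoh.stalk ξ).map h) ∨ ∀ a, (EtCoh.stalk ξ).map h a = 0 := fun Ω _ _ ξ => by
    have hb := EtFound.toSheafify_const_germ_bijective ξ AddCommGrpCat.{u + 1}
      (AddCommGrpCat.of (ULift.{u + 1} (ZMod p))) (EtCoh.top X) (CategoryTheory.Over.homMk ξ (Category.comp_id ξ))
    have hcard : Nat.card ((EtCoh.stalk ξ).obj (EtCoh.const X (ZMod p))) = p :=
      (Nat.card_congr (Equiv.ofBijective _ hb).symm).trans ((Nat.card_congr Equiv.ulift).trans (Nat.card_zmod p))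
    haveI : Fact (Nat.card ((EtCoh.stalk ξ).obj (EtCoh.const X (ZMod p)))).Prime := ⟨by rw [hcard]; exact Fact.out⟩
    rcases ((EtCoh.stalk ξ).map h).hom.ker.eq_bot_or_eq_top_of_prime_card with hk | hk
    · exact Or.inl ((AddMonoidHom.ker_eq_bot_iff _).1 hk)
    · exact Or.inr fun a => AddMonoidHom.mem_ker.1 (hk.symm ▸ AddSubgroup.mem_top a)
  by_cases hinj : ∃ (Ω : Type u) (_ : Field Ω) (_ : IsSepClosed Ω) (ξ : Spec (CommRingCat.of Ω) ⟶ X),
      Function.Injective ((EtCoh.stalk ξ).map h)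
  · obtain ⟨Ω, _, _, ξ, hξ⟩ := hinj
    exact (EtFound.mono_iff_stalks h).2 fun Ω' _ _ ξ' =>
      EtFound.injective_stalk_congr h ξ ξ' (@Subsingleton.elim (PrimeSpectrum k) inferInstance _ _) hξ
  · push Not at hinj
    refine absurd (EtFound.eq_of_stalks h 0 fun Ω i₁ i₂ ξ => AddCommGrpCat.ext fun a => ?_) hh
    exact ((@hcase Ω i₁ i₂ ξ).resolve_left (@hinj Ω i₁ i₂ ξ) a).trans
      (ConcreteCategory.congr_hom ((@EtCoh.stalk X Ω i₁ i₂ ξ).map_zero (EtCoh.const X (ZMod p)) G) a).symm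

end Groth.Agent.FieldCd
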